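import Cfsg.Agent.SporRec.TwoSp6.CInvol
import Cfsg.Prelude.Def_TwoFusion
import Cfsg.Agent.S0215
import Cfsg.Agent.S1180
set_option linter.all false

/-!
# Fusion of the central involution in groups of type `Co₃`

`G` finite without odd core and centre, `C = C_G(t)` the non-split double cover of `Sp₆(2)`: the conjugates of `t` in
`C` are `t` and the involutions of type A, and every pair `(t, a)`, `a` of type A, is reversed by an element of `G`.
-/

set_option autoImplicit false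

namespace Cfsg.Agent.SporRec.Co3.Fusion

open Cfsg.Agent.SporRec.TwoSp6.Cox Cfsg.Agent.SporRec.TwoSp6.Sp Cfsg.Agent.SporRec.TwoSp6.Lift
  Cfsg.Agent.SporRec.TwoSp6.Main Cfsg.Agent.SporRec.TwoSp6.Invol Cfsg.Agent.SporRec.TwoSp6.CInvol

section

variable {C : Type*} [Group C] {z : C} {π : C →* S}

/-- A lift of `tr u * tr w * tr t` commutes with the lifts of `tr u`. -/
theorem comm_three (N : NS z π) {u w t : V} (hu : u ≠ 0) (hw : w ≠ 0) (hne : w ≠ u) (ht : t ≠ 0) (htu : t ≠ u)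
    (h1 : om u w = 0) (h2 : om u t = 0) {y p : C} (hy : π y = tr u * tr w * tr t) (hp : π p = tr u) :
    p * y = y * p := by
  obtain ⟨q, hq⟩ := N.surj (tr w)
  obtain ⟨r, hr⟩ := N.surj (tr t)
  have k1 : π (p * q * r) = π y := by rw [map_mul, map_mul, hp, hq, hr, hy]
  have cq := N.anti u w hu hw hne h1 p q hp hq
  have cr := N.anti u t hu ht htu h2 p r hp hr
  have zr : ∀ a b : C, a * (z * b) = z * (a * b) := fun a b => by rw [← mul_assoc, ← N.z_comm, mul_assoc]
  have zz : ∀ a : C, z * (z * a) = a := fun a => by rw [← mul_assoc, N.z_sq, one_mul]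
  have k2 : p * (p * q * r) = (p * q * r) * p := by
    calc p * (p * q * r) = p * ((p * q) * r) := by group
      _ = p * (z * (q * (p * r))) := by rw [cq]; group
      _ = p * (z * (q * (z * (r * p)))) := by rw [cr]
      _ = z * (z * (p * (q * (r * p)))) := by rw [zr p, zr q, zr p]
      _ = (p * q * r) * p := by rw [zz]; group
  rcases N.toExt.eq_or k1 with h | h
  · rw [h, k2]
  · rw [h, zr p, k2, mul_assoc z]

/-- `z` is a square in the centraliser of an involution of type A. -/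
theorem root_A (N : NS z π) {y : C} (h : TwoSp6.CInvol.IsA π y) : ∃ c, c * y = y * c ∧ c * c = z := by
  obtain ⟨u, w, hu, hw, hne, ho, e⟩ := h
  obtain ⟨p, hp⟩ := N.surj (tr u)
  refine ⟨p, comm_three N hu hw hne (add_ne_zero' hne) (add_ne_left hw) ho (by rw [om_add, om_self, ho, add_zero])
    e hp, N.sq u hu p hp⟩

/-- `z` is a square in the centraliser of an involution of type B. -/
theorem root_B (N : NS z π) {y : C} (h : TwoSp6.CInvol.IsB π y) : ∃ c, c * y = y * c ∧ c * c = z := by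
  obtain ⟨u, w, t, ⟨h1, h2, h3, h4, h5, -, -⟩, ⟨o1, o2, -⟩, e⟩ := h
  obtain ⟨p, hp⟩ := N.surj (tr u)
  exact ⟨p, comm_three N h1 h2 h3 h4 h5 o1 o2 e hp, N.sq u h1 p hp⟩

theorem b3_ne_one {u w t : V} (hi : Ind u w t) (ho : Orth u w t) : tr u * tr w * tr t ≠ 1 := by
  intro h
  have := b3_not_sq hi ho 1
  rw [one_mul] at this
  exact this h.symm

theorem not_isB_z (N : NS z π) : ¬ TwoSp6.CInvol.IsB π z := by
  rintro ⟨u, w, t, hi, ho, e⟩
  rw [N.map_z] at e
  exact b3_ne_one hi ho e.symm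

theorem not_isA_z (N : NS z π) : ¬ TwoSp6.CInvol.IsA π z := by
  intro h
  obtain ⟨u, w, hu, hw, hne, ho, e⟩ := h
  obtain ⟨t, ⟨-, -, -, h4, h5, h6, h7⟩, ⟨-, o2, o3⟩⟩ := exists_third hu hw hne ho
  obtain ⟨c, hc⟩ := N.surj (tr t)
  have o2' : om t u = 0 := by rw [om_symm]; exact o2
  have o3' : om t w = 0 := by rw [om_symm]; exact o3
  have := NS.conj_three N hu hw (add_ne_zero' hne) h4 h5.symm h6.symm h7.symm o2' o3'
      (by rw [om_add, o2', o3', add_zero]) e hc
  have h3 : z * c = c := by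
    have h2 : z * c = z * (z * c) := by
      rw [N.z_comm c] at this ⊢
      exact this
    exact (mul_left_cancel h2).symm
  exact N.z_ne (mul_eq_right.1 h3)

end

/-- The involution as an element of its centraliser. -/
def tC {G : Type*} [Group G] (t : G) : Subgroup.centralizer ({t} : Set G) :=
  ⟨t, Subgroup.mem_centralizer_singleton_iff.2 rfl⟩

theorem mem_cent {G : Type*} [Group G] {t g : G} : g ∈ Subgroup.centralizer ({t} : Set G) ↔ g * t = t * g :=
  Subgroup.mem_centralizer_singleton_iff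

theorem exists_NS {G : Type*} [Group G] [Finite G] (t : G) (ht : orderOf t = 2)
    (hC : Cfsg.IsNonsplitDoubleCover (Subgroup.centralizer ({t} : Set G))
      (Matrix.symplecticGroup (Fin 3) (ZMod 2))) :
    ∃ (π : Subgroup.centralizer ({t} : Set G) →* S) (a : Fin 7 → Subgroup.centralizer ({t} : Set G)),
      NS (tC t) π ∧ (∀ i, π (a i) = tr (v i)) ∧ Rels (tC t) a ∧
      Nat.card (Subgroup.centralizer ({t} : Set G)) = 2903040 := by
  obtain ⟨z, π, a, hz, E, ha, R, hcard⟩ := Cfsg.Agent.SporRec.TwoSp6.Main.exists_rels hC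
  have h1 : tC t ∈ Subgroup.center (Subgroup.centralizer ({t} : Set G)) := by
    rw [Subgroup.mem_center_iff]
    intro x
    exact Subtype.ext (mem_cent.1 x.2)
  have h2 : tC t = z := by
    rcases (hz _).1 h1 with h | h
    · exfalso
      have : t = 1 := congrArg Subtype.val h
      rw [this, orderOf_one] at ht
      omega
    · exact h
  rw [h2]
  exact ⟨π, a, NS.of_rels E ha R, ha, R, hcard⟩

section Sit

variable {G : Type*} [Group G] {t : G} {π : Subgroup.centralizer ({t} : Set G) →* S}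

/-- `y ∈ C` is of type A. -/
def InA (π : Subgroup.centralizer ({t} : Set G) →* S) (y : G) : Prop :=
  ∃ h : y ∈ Subgroup.centralizer ({t} : Set G), TwoSp6.CInvol.IsA π ⟨y, h⟩

/-- `y ∈ C` is of type B. -/
def InB (π : Subgroup.centralizer ({t} : Set G) →* S) (y : G) : Prop :=
  ∃ h : y ∈ Subgroup.centralizer ({t} : Set G), TwoSp6.CInvol.IsB π ⟨y, h⟩

theorem t_sq (N : NS (tC t) π) : t * t = 1 := congrArg Subtype.val N.z_sq

theorem t_ne (N : NS (tC t) π) : t ≠ 1 := fun h => N.z_ne (Subtype.ext h)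

theorem invol (N : NS (tC t) π) {y : G} (hy : y * t = t * y) (h2 : y * y = 1) (h1 : y ≠ 1) (ht : y ≠ t) :
    InA π y ∨ InB π y := by
  have := NS.invol N (y := ⟨y, mem_cent.2 hy⟩) (Subtype.ext h2) (fun h => h1 (congrArg Subtype.val h))
    (fun h => ht (congrArg Subtype.val h))
  rcases this with h | h
  · exact Or.inl ⟨_, h⟩
  · exact Or.inr ⟨_, h⟩

theorem InA.ne_t (N : NS (tC t) π) {y : G} (h : InA π y) : y ≠ t := by
  rintro rfl
  obtain ⟨hm, hA⟩ := h
  exact not_isA_z N hA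

theorem InB.ne_t (N : NS (tC t) π) {y : G} (h : InB π y) : y ≠ t := by
  rintro rfl
  obtain ⟨hm, hB⟩ := h
  exact not_isB_z N hB

theorem InA.comm {y : G} (h : InA π y) : y * t = t * y := mem_cent.1 h.1

theorem InB.comm {y : G} (h : InB π y) : y * t = t * y := mem_cent.1 h.1

/-- Type B elements are not squares in `C`. -/
theorem InB.not_sq {y : G} (h : InB π y) {c : G} (hc : c * t = t * c) : c * c ≠ y := by
  rintro rfl
  obtain ⟨hm, hB⟩ := h
  exact isB_not_sq hB (⟨c, mem_cent.2 hc⟩ : Subgroup.centralizer ({t} : Set G)) rfl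

theorem InA.root (N : NS (tC t) π) {y : G} (h : InA π y) : ∃ c, c * t = t * c ∧ c * y = y * c ∧ c * c = t := by
  obtain ⟨hm, hA⟩ := h
  obtain ⟨c, h1, h2⟩ := root_A N hA
  exact ⟨c, mem_cent.1 c.2, congrArg Subtype.val h1, congrArg Subtype.val h2⟩

theorem InB.root (N : NS (tC t) π) {y : G} (h : InB π y) : ∃ c, c * t = t * c ∧ c * y = y * c ∧ c * c = t := by
  obtain ⟨hm, hB⟩ := h
  obtain ⟨c, h1, h2⟩ := root_B N hB
  exact ⟨c, mem_cent.1 c.2, congrArg Subtype.val h1, congrArg Subtype.val h2⟩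

theorem InA.conj (N : NS (tC t) π) {x y : G} (hx : InA π x) (hy : InA π y) :
    ∃ k, k * t = t * k ∧ k * x * k⁻¹ = y := by
  obtain ⟨hm, hA⟩ := hx
  obtain ⟨hm', hA'⟩ := hy
  obtain ⟨k, hk⟩ := NS.conj_A N hA hA'
  exact ⟨k, mem_cent.1 k.2, congrArg Subtype.val hk⟩

theorem InB.conj (N : NS (tC t) π) {x y : G} (hx : InB π x) (hy : InB π y) :
    ∃ k, k * t = t * k ∧ k * x * k⁻¹ = y := by
  obtain ⟨hm, hB⟩ := hx
  obtain ⟨hm', hB'⟩ := hy
  obtain ⟨k, hk⟩ := NS.conj_B N hB hB'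
  exact ⟨k, mem_cent.1 k.2, congrArg Subtype.val hk⟩

theorem InA.mul_t (N : NS (tC t) π) {y : G} (h : InA π y) : InA π (t * y) := by
  obtain ⟨hm, hA⟩ := h
  exact ⟨mul_mem (tC t).2 hm, NS.isA_mul N hA⟩

theorem comm_conj {g a b : G} (h : a * b = b * a) : (g * a * g⁻¹) * (g * b * g⁻¹) = (g * b * g⁻¹) * (g * a * g⁻¹) := by
  have : (g * a * g⁻¹) * (g * b * g⁻¹) = g * (a * b) * g⁻¹ := by group
  rw [this, h]; group

/-- **Type B elements are not conjugate to `t`.** -/
theorem not_fused_B (N : NS (tC t) π) {b : G} (hB : InB π b) (g : G) : g * t * g⁻¹ ≠ b := by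
  intro hg
  obtain ⟨c, c1, c2, c3⟩ := InB.root N hB
  -- transport to `t`
  have hb : g⁻¹ * b * g = t := by rw [← hg]; group
  have d1 : (g⁻¹ * c * g) * t = t * (g⁻¹ * c * g) := by
    have := comm_conj (g := g⁻¹) c2
    rw [inv_inv, hb] at this
    exact this
  have d2 : (g⁻¹ * c * g) * (g⁻¹ * c * g) = g⁻¹ * t * g := by
    rw [← c3]; group
  have e1 : (g⁻¹ * t * g) * t = t * (g⁻¹ * t * g) := by
    rw [← d2]
    generalize g⁻¹ * c * g = x at d1
    rw [mul_assoc, d1, ← mul_assoc, d1, mul_assoc]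
  have e2 : (g⁻¹ * t * g) * (g⁻¹ * t * g) = 1 := by
    have : (g⁻¹ * t * g) * (g⁻¹ * t * g) = g⁻¹ * (t * t) * g := by group
    rw [this, t_sq N]; group
  have e3 : g⁻¹ * t * g ≠ 1 := by
    intro h
    apply t_ne N
    have : t = g * (g⁻¹ * t * g) * g⁻¹ := by group
    rw [this, h]; group
  have e4 : g⁻¹ * t * g ≠ t := by
    intro h
    apply InB.ne_t N hB
    rw [← hg]
    have : t = g * (g⁻¹ * t * g) * g⁻¹ := by group
    rw [h] at this
    exact this.symm
  rcases invol N e1 e2 e3 e4 with hA | hB'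
  · obtain ⟨d, f1, f2, f3⟩ := InA.root N hA
    have h1 : g * (g⁻¹ * t * g) * g⁻¹ = t := by group
    have f4 : (g * d * g⁻¹) * t = t * (g * d * g⁻¹) := by
      have := comm_conj (g := g) f2
      rw [h1] at this
      exact this
    have f5 : (g * d * g⁻¹) * (g * d * g⁻¹) = b := by
      rw [← hg, ← f3]; group
    exact InB.not_sq hB f4 f5
  · exact InB.not_sq hB' d1 d2

/-- Conjugates of `t` in `C`. -/
theorem fused_cases (N : NS (tC t) π) {g : G} (h : (g * t * g⁻¹) * t = t * (g * t * g⁻¹)) :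
    g * t * g⁻¹ = t ∨ InA π (g * t * g⁻¹) := by
  by_cases h1 : g * t * g⁻¹ = t
  · exact Or.inl h1
  right
  have h2 : (g * t * g⁻¹) * (g * t * g⁻¹) = 1 := by
    have : (g * t * g⁻¹) * (g * t * g⁻¹) = g * (t * t) * g⁻¹ := by group
    rw [this, t_sq N]; group
  have h3 : g * t * g⁻¹ ≠ 1 := by
    intro h
    apply t_ne N
    have : t = g⁻¹ * (g * t * g⁻¹) * g := by group
    rw [this, h]; group
  rcases invol N h h2 h3 h1 with hA | hB
  · exact hA
  · exact absurd rfl (not_fused_B N hB g)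

/-- **Z*-theorem**: `t` commutes with a further conjugate. -/
theorem exists_fused [Finite G] (ht : orderOf t = 2) (hO : Cfsg.oddCore G = ⊥) (hZ : Subgroup.center G = ⊥) :
    ∃ g : G, g * t * g⁻¹ ≠ t ∧ (g * t * g⁻¹) * t = t * (g * t * g⁻¹) := by
  by_contra hcon
  push Not at hcon
  have hiso : Cfsg.IsIsolatedInvolution t := by
    refine ⟨ht, fun g hg => ?_⟩
    by_contra h
    exact hcon g h hg.symm
  have : Fact (Nat.Prime 2) := ⟨Nat.prime_two⟩
  have hp : IsPGroup 2 (Subgroup.zpowers t) := by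
    rw [IsPGroup.iff_card]
    exact ⟨1, by rw [Nat.card_zpowers, ht, pow_one]⟩
  obtain ⟨P, hP⟩ := hp.exists_le_sylow
  have htP : t ∈ P := hP (Subgroup.mem_zpowers t)
  obtain ⟨M, hM, hodd, hcomm⟩ := Cfsg.Agent.S0215.result P t ht htP fun g hg =>
    Cfsg.Agent.S1180.eq_of_conj_mem_isPGroup t hiso (P : Subgroup G) P.isPGroup' htP g hg
  have hMb : M = ⊥ := by
    rw [eq_bot_iff, ← hO]
    exact Cfsg.Agent.Lib.Cores.le_pPrimeCore hM (Nat.coprime_two_right.2 hodd)
  have htc : t ∈ Subgroup.center G := by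
    rw [Subgroup.mem_center_iff]
    intro g
    have h1 := hcomm g
    rw [hMb, Subgroup.mem_bot, mul_inv_eq_one, mul_inv_eq_iff_eq_mul] at h1
    exact h1.symm
  rw [hZ, Subgroup.mem_bot] at htc
  rw [htc, orderOf_one] at ht
  omega

/-- All elements of type A are conjugate to `t`. -/
theorem fused_A [Finite G] (ht : orderOf t = 2) (hO : Cfsg.oddCore G = ⊥) (hZ : Subgroup.center G = ⊥)
    (N : NS (tC t) π) {a : G} (ha : InA π a) : ∃ g, g * t * g⁻¹ = a := by
  obtain ⟨g, g1, g2⟩ := exists_fused ht hO hZ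
  rcases fused_cases N g2 with h | h
  · exact absurd h g1
  · obtain ⟨k, -, hk⟩ := InA.conj N h ha
    exact ⟨k * g, by rw [← hk]; group⟩

/-- The pairs `(t, a)` with `a` of type A are reversed in `G`. -/
theorem swap [Finite G] (ht : orderOf t = 2) (hO : Cfsg.oddCore G = ⊥) (hZ : Subgroup.center G = ⊥)
    (N : NS (tC t) π) {a : G} (ha : InA π a) : ∃ h, h * t * h⁻¹ = a ∧ h * a * h⁻¹ = t := by
  obtain ⟨g, hg⟩ := fused_A ht hO hZ N ha
  have hb : g⁻¹ * a * g = t := by rw [← hg]; group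
  have h1 : (g⁻¹ * t * g⁻¹⁻¹) * t = t * (g⁻¹ * t * g⁻¹⁻¹) := by
    have := comm_conj (g := g⁻¹) ha.comm
    rw [inv_inv, hb] at this
    rw [inv_inv]
    exact this.symm
  rcases fused_cases N h1 with h2 | h2
  · exfalso
    apply InA.ne_t N ha
    rw [← hg]
    have : t = g * (g⁻¹ * t * g⁻¹⁻¹) * g⁻¹ := by group
    rw [h2] at this
    exact this.symm
  · obtain ⟨k, k1, k2⟩ := InA.conj N h2 ha
    refine ⟨k * g⁻¹, ?_, ?_⟩
    · rw [← k2]; group
    · have : k * g⁻¹ * a * (k * g⁻¹)⁻¹ = k * (g⁻¹ * a * g) * k⁻¹ := by group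
      rw [this, hb, k1, mul_inv_cancel_right]

end Sit

end Cfsg.Agent.SporRec.Co3.Fusion
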