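import Cfsg.Agent.SporRec.Co3.Enum
set_option linter.all false

/-!
# Involutions of rank three of Sp(6, 2)
-/

set_option autoImplicit false

namespace Cfsg.Agent.SporRec.Co3

open Matrix

/-- Every fixed vector lies in the image of `X - 1` (for an involution of `Sp(6, 2)`: rank three). -/
def Pim (X : M6) : Prop := ∀ v : Fin 3 ⊕ Fin 3 → ZMod 2, X *ᵥ v = v → ∃ w, X *ᵥ w = w + v

theorem pim_conj (X g : Sp) (h : Pim X) : Pim ((g * X * g⁻¹ : Sp) : M6) := by
  intro v hv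
  have hgg : ((g⁻¹ : Sp) : M6) * (g : M6) = 1 := by
    have : (g⁻¹ * g : Sp) = 1 := inv_mul_cancel g
    exact congrArg Subtype.val this
  have hgg' : (g : M6) * ((g⁻¹ : Sp) : M6) = 1 := by
    have : (g * g⁻¹ : Sp) = 1 := mul_inv_cancel g
    exact congrArg Subtype.val this
  have hval : ((g * X * g⁻¹ : Sp) : M6) = (g : M6) * (X : M6) * ((g⁻¹ : Sp) : M6) := rfl
  rw [hval] at hv ⊢
  have h1 : (X : M6) *ᵥ (((g⁻¹ : Sp) : M6) *ᵥ v) = ((g⁻¹ : Sp) : M6) *ᵥ v := by
    conv_rhs => rw [← hv]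
    simp only [mulVec_mulVec]
    rw [← Matrix.mul_assoc, ← Matrix.mul_assoc, hgg, Matrix.one_mul]
  obtain ⟨w, hw⟩ := h _ h1
  refine ⟨(g : M6) *ᵥ w, ?_⟩
  rw [mulVec_mulVec, Matrix.mul_assoc, Matrix.mul_assoc, hgg, Matrix.mul_one, ← mulVec_mulVec, hw,
    mulVec_add, mulVec_mulVec, hgg', one_mulVec]

theorem pim_of_conj (X g : Sp) (h : Pim ((g * X * g⁻¹ : Sp) : M6)) : Pim X := by
  have := pim_conj (g * X * g⁻¹) g⁻¹ h
  simpa [mul_assoc] using this

theorem U_mulVec (M : M3) (v : Fin 3 ⊕ Fin 3 → ZMod 2) :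
    U M *ᵥ v = Sum.elim (fun i => v (Sum.inl i) + (M *ᵥ (v ∘ Sum.inr)) i) (fun i => v (Sum.inr i)) := by
  rw [U, fromBlocks_mulVec]
  simp only [one_mulVec, zero_mulVec, zero_add]
  rfl

theorem pim_U_one : Pim (U 1) := by
  intro v hv
  rw [U_mulVec] at hv
  have h2 : ∀ i, v (Sum.inr i) = 0 := by
    intro i
    have := congrFun hv (Sum.inl i)
    simp only [Sum.elim_inl, one_mulVec, Function.comp] at this
    exact add_eq_left.mp this
  refine ⟨Sum.elim 0 (fun i => v (Sum.inl i)), ?_⟩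
  rw [U_mulVec]
  funext i
  rcases i with i | i
  · simp [one_mulVec]
  · simp [h2]

theorem dt_of_pim {M : M3} (h : Pim (U M)) : dt M = 1 := by
  by_contra hne
  have h0 : dt M = 0 := by
    have : ∀ x : ZMod 2, x ≠ 1 → x = 0 := by decide
    exact this _ hne
  rw [← det_eq, ← exists_mulVec_eq_zero_iff] at h0
  obtain ⟨w, hw0, hw⟩ := h0
  have hfix : U M *ᵥ (Sum.elim (0 : Fin 3 → ZMod 2) w) = Sum.elim (0 : Fin 3 → ZMod 2) w := by
    rw [U_mulVec]
    funext i
    rcases i with i | i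
    · have : (Sum.elim (0 : Fin 3 → ZMod 2) w) ∘ Sum.inr = w := rfl
      simp [this, hw]
    · simp
  obtain ⟨u, hu⟩ := h _ hfix
  apply hw0
  funext i
  have := congrFun hu (Sum.inr i)
  rw [U_mulVec] at this
  simp only [Sum.elim_inr, Pi.add_apply] at this
  exact (left_eq_add.mp this)

/-- Contradiction for the elements of the centralizer of `U 1` inducing a transposition. -/
theorem not_pim_aux (p : M3 × Fin 3) (hp : p ∈ transps) (B : M3) (x y z : ZMod 2)
    (h : ∀ i, (p.1 *ᵥ v3 x y z) i + B i p.2 = v3 x y z i) : ¬ Pim (fromBlocks p.1 B 0 p.1) := by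
  intro hpim
  have hrow := transps_row p hp
  have hcol := transps_col p hp
  have hfix : fromBlocks p.1 B 0 p.1 *ᵥ (Sum.elim (v3 x y z) (Pi.single p.2 1)) =
      Sum.elim (v3 x y z) (Pi.single p.2 1) := by
    rw [fromBlocks_mulVec]
    funext i
    rcases i with i | i
    · simp only [Sum.elim_inl, Pi.add_apply]
      have e1 : (Sum.elim (v3 x y z) (Pi.single p.2 1 : Fin 3 → ZMod 2)) ∘ Sum.inl = v3 x y z := rfl
      have e2 : (Sum.elim (v3 x y z) (Pi.single p.2 1 : Fin 3 → ZMod 2)) ∘ Sum.inr = Pi.single p.2 1 :=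
        rfl
      rw [e1, e2]
      have e3 : (B *ᵥ (Pi.single p.2 1 : Fin 3 → ZMod 2)) i = B i p.2 := by
        rw [mulVec_single_one]; rfl
      rw [e3]; exact h i
    · simp only [Sum.elim_inr, zero_mulVec, zero_add]
      have e2 : (Sum.elim (v3 x y z) (Pi.single p.2 1 : Fin 3 → ZMod 2)) ∘ Sum.inr = Pi.single p.2 1 :=
        rfl
      rw [e2]
      have e3 : (p.1 *ᵥ (Pi.single p.2 1 : Fin 3 → ZMod 2)) i = p.1 i p.2 := by
        rw [mulVec_single_one]; rfl
      rw [e3, hcol, Pi.single_apply]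
  obtain ⟨w, hw⟩ := hpim _ hfix
  have h1 := congrFun hw (Sum.inr p.2)
  rw [fromBlocks_mulVec] at h1
  simp only [Sum.elim_inr, zero_mulVec, zero_add, Pi.add_apply, Pi.single_eq_same] at h1
  have h2 : (p.1 *ᵥ (w ∘ Sum.inr)) p.2 = w (Sum.inr p.2) := by
    rw [mulVec, dotProduct]
    simp only [hrow]
    simp
  rw [h2] at h1
  have := left_eq_add.mp h1
  exact absurd this (by decide)

theorem not_pim_transp (p : M3 × Fin 3) (hp : p ∈ transps) (M : M3) (hM : M.IsSymm)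
    (hN : p.1 * M * p.1 = M) (h1 : Pim (fromBlocks p.1 (M * p.1) 0 p.1))
    (h2 : Pim (fromBlocks p.1 ((M + 1) * p.1) 0 p.1)) : False := by
  have e := eq_sm hM
  rw [e] at hN h1 h2
  rcases transps_fix p hp _ _ _ _ _ _ hN with ⟨x, y, z, h⟩ | ⟨x, y, z, h⟩
  · exact not_pim_aux p hp _ x y z h h1
  · exact not_pim_aux p hp _ x y z h h2

end Cfsg.Agent.SporRec.Co3
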