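import Cfsg.Agent.SporRec.Co3.Ident
import Cfsg.Agent.SporRec.Co3.Assemble
set_option linter.all false

/-!
# The subgroup `S₅` of the third Conway group centralising the four-group `⟨y, u⟩`
-/

set_option autoImplicit false
set_option maxHeartbeats 400000

namespace Cfsg.Agent.SporRec.Co3.FiveG3

open Cfsg.Agent.SporRec.TwoSp6.Model Cfsg.Agent.SporRec.Co3DC Cfsg.Agent.SporRec.Co3.Chain
  Cfsg.Agent.SporRec.Co3.Ident Cfsg.Agent.SporRec.Co3.CWords Cfsg.Agent.SporRec.Co3.FiveHom
  Cfsg.Agent.SporRec.Co3.Assemble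

/-- a conjugate of `z` -/
def x4 : List ℕ := [8,8,4,5,2,3,4,7,8,8,5,3,0,7,8,8,7,8,0,3,5,8,4,3,2,5,4,8]

/-- a conjugate of `z` -/
def x2 : List ℕ := [3,7,8,8,5,7,8,8,3,2,4,7,8,8,5,7,8,8,7,8,5,8,4,2,3,8,5,8,3]

/-- words for the adjacent transpositions -/
def rW (i : Fin 4) : List ℕ :=
  if i = 0 then wd else if i = 1 then wd ++ x4 ++ x2 else if i = 2 then wd ++ [7] else wd ++ x4

/-- the adjacent transpositions -/
noncomputable def r (i : Fin 4) : G3 := mw A Z W0 (rW i)

theorem r_sq : ∀ i : Fin 4, r i * r i = 1 := by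
  have h : ∀ i : Fin 4, chk (rW i ++ rW i) [] = true := by decide +kernel
  intro i
  have h1 := mw_eq (h i)
  rwa [mw_append, mw_nil] at h1

theorem r_comm : ∀ i j : Fin 4, i.val + 1 < j.val → r i * r j = r j * r i := by
  have h : ∀ i j : Fin 4, i.val + 1 < j.val → chk (rW i ++ rW j) (rW j ++ rW i) = true := by
    decide +kernel
  intro i j hij
  have h1 := mw_eq (h i j hij)
  rwa [mw_append, mw_append] at h1

theorem r_braid : ∀ i j : Fin 4, i.val + 1 = j.val → r i * r j * r i = r j * r i * r j := by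
  have h : ∀ i j : Fin 4, i.val + 1 = j.val →
      chk (rW i ++ rW j ++ rW i) (rW j ++ rW i ++ rW j) = true := by
    decide +kernel
  intro i j hij
  have h1 := mw_eq (h i j hij)
  rwa [mw_append, mw_append, mw_append, mw_append] at h1

theorem r_y : ∀ i : Fin 4, r i * mw A Z W0 wy = mw A Z W0 wy * r i := by
  have h : ∀ i : Fin 4, chk (rW i ++ wy) (wy ++ rW i) = true := by decide +kernel
  intro i
  have h1 := mw_eq (h i)
  rwa [mw_append, mw_append] at h1

theorem r_u : ∀ i : Fin 4, r i * mw A Z W0 wu = mw A Z W0 wu * r i := by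
  have h : ∀ i : Fin 4, chk (rW i ++ wu) (wu ++ rW i) = true := by decide +kernel
  intro i
  have h1 := mw_eq (h i)
  rwa [mw_append, mw_append] at h1

theorem r_z : r 0 * r 2 = Z := by
  have h1 := mw_eq (show chk (rW 0 ++ rW 2) [7] = true by decide +kernel)
  rwa [mw_append, mw_z] at h1

theorem r_v : r 1 * Z * r 1 = mw A Z W0 wv' := by
  have h1 := mw_eq (show chk (rW 1 ++ [7] ++ rW 1) wv' = true by decide +kernel)
  rwa [mw_append, mw_append, mw_z] at h1

theorem phi0_word {l : List ℕ} (h : (l.all fun k => Nat.ble k 7) = true) :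
    phi0 (W l) = mw A Z W0 l := (phi0_wv l).trans (wv_A h)

/-- **The subgroup `S₅`.** -/
theorem exists_five : ∃ f : P5 →* G3, Five phi0 f := by
  obtain ⟨f, hf, hr⟩ := FiveHom.exists_hom r r_sq r_comm r_braid
  have hcen : ∀ (y : G3), (∀ i, r i * y = y * r i) → ∀ σ, f σ * y = y * f σ := by
    intro y hy σ
    have h1 : f σ ∈ Subgroup.closure (Set.range r) := by rw [← hr]; exact ⟨σ, rfl⟩
    have hle : Subgroup.closure (Set.range r) ≤ Subgroup.centralizer ({y} : Set G3) := by
      rw [Subgroup.closure_le]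
      rintro _ ⟨i, rfl⟩
      exact Subgroup.mem_centralizer_singleton_iff.mpr (hy i)
    exact Subgroup.mem_centralizer_singleton_iff.mp (hle h1)
  have hdbl : f dbl = Z := by rw [← tp_dbl, map_mul, hf, hf, r_z]
  refine ⟨f, ⟨?_, ?_, ?_, ?_, ?_⟩⟩
  · rw [hdbl, phi0_z]
  · rw [← tp_zero, hf, phi0_word (by decide)]
    rfl
  · rw [← tp_dbl', map_mul, map_mul, hf, hdbl, r_v, phi0_word (by decide)]
  · intro σ
    rw [phi0_word (by decide)]
    exact hcen _ r_y σ
  · intro σ
    rw [phi0_word (by decide)]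
    exact hcen _ r_u σ

end Cfsg.Agent.SporRec.Co3.FiveG3
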